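import Cfsg.Agent.Lib.Helper29.M22B.Defs

/-!
# Project M22B, module [C7]: the centralizer of `g7` in `M22` is `⟨g7⟩`

`g7` has cycle type `1^3 7^3` on the 24 points (fixed points `∞, 0, 8`).  An element of `M22`
commuting with `g7` fixes `∞, 0, 8` and is determined by the images of the representatives `1, 2, 9`
of the three 7-cycles; of the `21^3` candidates exactly the seven powers of `g7` survive two octad
tests (method of `Helper7/M22Norm11.lean`).
-/

set_option autoImplicit false

namespace Cfsg.Agent.Lib.Helper29.M22B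
open Cfsg Cfsg.Agent.Lib.Helper7 Cfsg.Agent.Lib.Helper92 Cfsg.Agent.Lib.Helper92.SylM22

/-- The action of `g7` on indices. -/
def fG (i : ℕ) : ℕ := g7T.getD i 0

/-- Discrete logarithms: `i = fG^[j] r_m` with `r_0 = 1, r_1 = 2, r_2 = 9`. -/
def dlog7 : List (ℕ × ℕ) :=
  [(0, 0), (0, 0), (0, 1), (1, 0), (4, 0), (6, 0), (5, 0), (3, 1), (0, 0), (0, 2), (4, 2), (5, 1),
   (2, 2), (4, 1), (2, 1), (3, 2), (2, 0), (6, 2), (1, 1), (1, 2), (6, 1), (3, 0), (5, 2), (0, 0)]

/-- The candidate determined by the images `a, b, c` of `1, 2, 9`. -/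
def cand7 (a b c : ℕ) (i : ℕ) : ℕ :=
  if i = 23 then 23 else if i = 0 then 0 else if i = 8 then 8 else
    fG^[(dlog7.getD i (0, 0)).1] ([a, b, c].getD (dlog7.getD i (0, 0)).2 0)

/-- The two test octads. -/
def tPts1 : List ℕ := [0, 1, 6, 8, 9, 15, 18, 21]
def tMask1 : ℕ := 0x248343
def tPts2 : List ℕ := [2, 8, 9, 12, 14, 17, 20, 23]
def tMask2 : ℕ := 0x925304

/-- The octad tests. -/
def test7 (a b c : ℕ) : Bool :=
  isOctadMask (imgList (cand7 a b c) tPts1) && isOctadMask (imgList (cand7 a b c) tPts2)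

/-- The candidates passing the tests. -/
def pass7 : List (ℕ × ℕ × ℕ) :=
  (List.range 23).flatMap fun a =>
    (List.range 23).flatMap fun b =>
      (List.range 23).filterMap fun c => if test7 a b c = true then some (a, b, c) else none

theorem pass7_pow : ∀ x ∈ pass7, ∃ k < 7, ∀ i < 24,
    cand7 x.1 x.2.1 x.2.2 i = (powTb g7T k).getD i 0 := by decide +kernel

theorem mem_pass7 {a b c : ℕ} (ha : a < 23) (hb : b < 23) (hc : c < 23)
    (ht : test7 a b c = true) : (a, b, c) ∈ pass7 := by
  unfold pass7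
  rw [List.mem_flatMap]
  refine ⟨a, List.mem_range.mpr ha, ?_⟩
  rw [List.mem_flatMap]
  refine ⟨b, List.mem_range.mpr hb, ?_⟩
  rw [List.mem_filterMap]
  refine ⟨c, List.mem_range.mpr hc, ?_⟩
  rw [if_pos ht]

theorem fG_lt : ∀ i < 24, fG i < 24 := by decide

theorem fG_fixed : ∀ v < 24, fG v = v → v = 23 ∨ v = 0 ∨ v = 8 := by decide

theorem dlog7_spec : ∀ i < 24, i ≠ 23 → i ≠ 0 → i ≠ 8 →
    fG^[(dlog7.getD i (0, 0)).1] ([1, 2, 9].getD (dlog7.getD i (0, 0)).2 0) = i ∧
      (dlog7.getD i (0, 0)).2 < 3 := by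
  decide

theorem tMask1_spec : ∀ i < 24, tMask1.testBit i = true ↔ i ∈ tPts1 := by decide
theorem tMask2_spec : ∀ i < 24, tMask2.testBit i = true ↔ i ∈ tPts2 := by decide
theorem tPts1_lt : ∀ i ∈ tPts1, i < 24 := by decide
theorem tPts2_lt : ∀ i ∈ tPts2, i < 24 := by decide
theorem isOctadMask_tMask1 : isOctadMask tMask1 = true := by decide +kernel
theorem isOctadMask_tMask2 : isOctadMask tMask2 = true := by decide +kernel

theorem idx_g7 (p : GolayPt) : idx (g7 p) = fG (idx p) := matches_g7 p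

theorem g7_pt {i : ℕ} (hi : i < 24) : g7 (pt i) = pt (fG i) := by
  apply idx_injective
  rw [idx_g7, idx_pt hi, idx_pt (fG_lt i hi)]

/-- The key relation on index functions. -/
theorem idxFun_rel7 {g : Equiv.Perm GolayPt} (h : g * g7 = g7 * g) :
    ∀ i < 24, idxFun g (fG i) = fG (idxFun g i) := by
  intro i hi
  unfold idxFun
  rw [← g7_pt hi, ← Equiv.Perm.mul_apply, h, Equiv.Perm.mul_apply, idx_g7]

theorem fG_iter_lt (j : ℕ) : ∀ i < 24, fG^[j] i < 24 := by
  induction j with
  | zero => intro i hi; simpa using hi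
  | succ j ih =>
    intro i hi
    rw [Function.iterate_succ_apply']
    exact fG_lt _ (ih i hi)

theorem idxFun_iter7 {g : Equiv.Perm GolayPt} (h : g * g7 = g7 * g) (j : ℕ) :
    ∀ i < 24, idxFun g (fG^[j] i) = fG^[j] (idxFun g i) := by
  induction j with
  | zero => intro i _; simp
  | succ j ih =>
    intro i hi
    rw [Function.iterate_succ_apply', idxFun_rel7 h _ (fG_iter_lt j i hi), ih i hi,
      ← Function.iterate_succ_apply' fG]

theorem idxFun_fix {g : Equiv.Perm GolayPt} (hg : g ∈ Spor.M22) :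
    idxFun g 23 = 23 ∧ idxFun g 0 = 0 := by
  rw [mem_M22] at hg
  constructor
  · show idx (g (pt 23)) = 23
    rw [hg.2.1]; rfl
  · show idx (g (pt 0)) = 0
    rw [hg.2.2]; rfl

theorem idxFun_eight {g : Equiv.Perm GolayPt} (hg : g ∈ Spor.M22) (h : g * g7 = g7 * g) :
    idxFun g 8 = 8 := by
  obtain ⟨h23, h0⟩ := idxFun_fix hg
  have h1 := idxFun_rel7 h 8 (by decide)
  have h2 : fG 8 = 8 := by decide
  rw [h2] at h1
  rcases fG_fixed _ (idxFun_lt g 8) h1.symm with h3 | h3 | h3
  · exact absurd (h3.trans h23.symm)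
      (idxFun_ne_of_ne (g := g) (i := 8) (j := 23) (by decide) (by decide) (by decide))
  · exact absurd (h3.trans h0.symm)
      (idxFun_ne_of_ne (g := g) (i := 8) (j := 0) (by decide) (by decide) (by decide))
  · exact h3

theorem idxFun_eq_cand7 {g : Equiv.Perm GolayPt} (hg : g ∈ Spor.M22) (h : g * g7 = g7 * g) :
    ∀ i < 24, idxFun g i = cand7 (idxFun g 1) (idxFun g 2) (idxFun g 9) i := by
  obtain ⟨h23, h0⟩ := idxFun_fix hg
  have h8 := idxFun_eight hg h
  intro i hi
  unfold cand7
  by_cases c23 : i = 23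
  · subst c23; rw [if_pos rfl]; exact h23
  · rw [if_neg c23]
    by_cases c0 : i = 0
    · subst c0; rw [if_pos rfl]; exact h0
    · rw [if_neg c0]
      by_cases c8 : i = 8
      · subst c8; rw [if_pos rfl]; exact h8
      · rw [if_neg c8]
        obtain ⟨hd, hm⟩ := dlog7_spec i hi c23 c0 c8
        generalize dlog7.getD i (0, 0) = jm at hd hm
        obtain ⟨j, m⟩ := jm
        simp only at hd hm ⊢
        interval_cases m
        · simp only [List.getD_cons_zero] at hd ⊢
          rw [← idxFun_iter7 h j 1 (by decide), hd]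
        · simp only [List.getD_cons_succ, List.getD_cons_zero] at hd ⊢
          rw [← idxFun_iter7 h j 2 (by decide), hd]
        · simp only [List.getD_cons_succ, List.getD_cons_zero] at hd ⊢
          rw [← idxFun_iter7 h j 9 (by decide), hd]

/-- [C7] the centralizer of `g7` in `M22` is `⟨g7⟩`. -/
theorem centralizer_g7 (g : Equiv.Perm GolayPt) (hg : g ∈ Spor.M22) (hc : g * g7 = g7 * g) :
    g ∈ Subgroup.zpowers g7 := by
  have hcand := idxFun_eq_cand7 hg hc
  have hM24 : g ∈ M24 := (mem_M22.mp hg).1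
  have hlt : ∀ i, idxFun g i < 23 ∨ idxFun g i = 23 := fun i => by
    have := idxFun_lt g i; omega
  obtain ⟨h23, _⟩ := idxFun_fix hg
  have hne : ∀ i < 23, idxFun g i < 23 := by
    intro i hi
    rcases hlt i with h | h
    · exact h
    · exact absurd (h.trans h23.symm)
        (idxFun_ne_of_ne (g := g) (i := i) (j := 23) (by omega) (by decide) (by omega))
  have ht : test7 (idxFun g 1) (idxFun g 2) (idxFun g 9) = true := by
    unfold test7
    rw [Bool.and_eq_true]
    constructor
    · rw [← imgList_congr (F := idxFun g) (fun i hi => hcand i (tPts1_lt i hi))]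
      exact isOctadMask_imgList hM24 tPts1 tMask1 tPts1_lt tMask1_spec isOctadMask_tMask1
    · rw [← imgList_congr (F := idxFun g) (fun i hi => hcand i (tPts2_lt i hi))]
      exact isOctadMask_imgList hM24 tPts2 tMask2 tPts2_lt tMask2_spec isOctadMask_tMask2
  have hmem := mem_pass7 (hne 1 (by decide)) (hne 2 (by decide)) (hne 9 (by decide)) ht
  obtain ⟨k, _, hk⟩ := pass7_pow _ hmem
  have hgk : g = g7 ^ k := by
    apply eq_of_idxFun_eq
    intro i hi
    rw [hcand i hi, hk i hi]
    exact (matches_pt (matches_powTb matches_g7 k) hi).symm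
  rw [hgk]
  exact Subgroup.pow_mem _ (Subgroup.mem_zpowers g7) k

end Cfsg.Agent.Lib.Helper29.M22B
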