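import Cfsg.Agent.Lib.Helper62.M22BChiFam

/-!
# Project M22B: `chiFam` lives in `Cfsg.Agent.Lib.Helper62.M22BChiFam` (this file only re-imports it,
so that importing either file gives the same single declaration).
-/
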