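import Mathlib

/-!
# Project M22B (S5005): certificate data (AUTO-GENERATED by helper29, scratch/m22/gen_data.py)

* `cW i`, `cTgt i` (`i < 128`): a word `w` in the generators of `M24` with `m24Word w ∈ M22` and
  `m24Word w * s_i * (m24Word w)⁻¹ = rep (cTgt i)`, where `s_i` is the element of `Helper92.SylM22.S0`
  with table `tbl i`;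
* `p3W (3 * i + j)`: a word `w` with `m24Word w * (x3 ^ i * z3 ^ j) * (m24Word w)⁻¹ = x3`
  (entry `0` unused);
* `cent4a`, `cent4b`: the indices `i < 128` with `tbl i` commuting with `u4a = tbl 76`, `u4b = tbl 5`.
-/

set_option autoImplicit false

namespace Cfsg.Agent.Lib.Helper29.M22B

/-- Conjugator words for the 128 elements of `S0`. -/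
def cWords : List (List ℕ) := [
  [],
  [4, 1, 3, 3, 0, 0, 1, 4, 1, 4, 1, 1, 1, 4, 4, 0],
  [1, 4, 1, 4, 1, 1, 3, 3, 0, 0, 4, 0, 3, 0, 3, 0, 3],
  [4, 0, 3, 0, 3, 0, 3, 1, 3, 3, 0, 0, 4],
  [0, 3, 0, 3, 0, 0, 3, 0, 3, 0, 1, 3, 3, 0, 0, 1, 4, 1, 4, 1, 3, 1, 4, 1, 4, 1, 3],
  [],
  [4, 0, 3, 0, 3, 0, 1, 3, 3, 0, 0, 1, 4, 1, 4, 1, 3, 1, 4, 1, 4, 1, 3],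
  [1, 4, 1, 4, 1, 1, 4, 1, 4, 1, 1, 3, 3, 0, 0, 1, 3, 3, 0, 0, 3, 3],
  [0, 3, 0, 3, 0, 3],
  [1, 1, 4, 4, 0, 3, 1, 1, 4, 4, 0, 3, 1, 3, 3, 0, 0, 1, 4, 1, 4, 1, 3],
  [1, 4, 1, 4, 1, 1, 3, 3, 0, 0, 4],
  [],
  [3, 1, 1, 4, 4, 0, 1, 4, 1, 4, 1, 1, 1, 4, 4, 0, 1, 1, 4, 4, 0],
  [0, 3, 0, 3, 0, 0, 3, 0, 3, 0, 3, 3, 1, 3, 3, 0, 0, 3, 3],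
  [1, 4, 1, 4, 1, 4, 4, 1, 1, 4, 4, 0],
  [3, 1, 4, 1, 4, 1, 4, 0, 3, 0, 3, 0, 4, 1, 3, 3, 0, 0, 1, 4, 1, 4, 1, 3],
  [0, 3, 0, 3, 0, 3],
  [1, 4, 1, 4, 1, 3, 1, 4, 1, 4, 1, 4, 1, 1, 4, 4, 0],
  [4, 1, 3, 3, 0, 0, 0, 3, 0, 3, 0, 3, 1, 1, 4, 4, 0, 3],
  [1, 3, 3, 0, 0, 3, 1, 4, 1, 4, 1, 4],
  [0, 3, 0, 3, 0, 0, 3, 0, 3, 0, 3, 3, 1, 3, 3, 0, 0, 3, 1, 4, 1, 4, 1],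
  [3, 1, 1, 4, 4, 0, 1, 4, 1, 4, 1, 3, 1, 3, 3, 0, 0],
  [1, 4, 1, 4, 1, 1, 3, 3, 0, 0, 3],
  [0, 3, 0, 3, 0, 3, 3, 1, 1, 4, 4, 0, 0, 3, 0, 3, 0],
  [1, 4, 1, 4, 1, 1, 4, 1, 4, 1, 1, 3, 3, 0, 0, 1, 3, 3, 0, 0, 3, 1, 4, 1, 4, 1],
  [0, 3, 0, 3, 0, 3, 1, 3, 3, 0, 0, 3, 3, 1, 3, 3, 0, 0, 3],
  [3, 1, 1, 4, 4, 0, 1, 1, 4, 4, 0, 0, 3, 0, 3, 0, 0, 3, 0, 3, 0, 0, 3, 0, 3, 0],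
  [],
  [1, 3, 3, 0, 0, 1, 4, 1, 4, 1, 1, 1, 4, 4, 0, 3, 1, 4, 1, 4, 1, 1, 3, 3, 0, 0],
  [3, 1, 3, 3, 0, 0, 1, 4, 1, 4, 1, 1, 3, 3, 0, 0, 1, 3, 3, 0, 0, 3, 1, 1, 4, 4, 0, 3],
  [0, 3, 0, 3, 0, 0, 3, 0, 3, 0, 0, 3, 0, 3, 0, 3, 1, 4, 1, 4, 1, 3],
  [1, 1, 4, 4, 0, 0, 3, 0, 3, 0, 0, 3, 0, 3, 0, 1, 1, 4, 4, 0, 1, 1, 4, 4, 0, 3],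
  [0, 3, 0, 3, 0, 0, 3, 0, 3, 0, 3, 3, 1, 3, 3, 0, 0, 3, 3],
  [4, 0, 3, 0, 3, 0, 3, 3, 1, 3, 3, 0, 0, 3, 3],
  [1, 1, 4, 4, 0, 1, 4, 1, 4, 1, 1, 3, 3, 0, 0, 1, 3, 3, 0, 0, 3, 1, 3, 3, 0, 0, 1, 3, 3, 0, 0, 3],
  [1, 1, 4, 4, 0, 3, 1, 3, 3, 0, 0, 0, 3, 0, 3, 0, 1, 3, 3, 0, 0],
  [3, 1, 1, 4, 4, 0, 0, 3, 0, 3, 0, 0, 3, 0, 3, 0, 3],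
  [3, 1, 1, 4, 4, 0, 1, 1, 4, 4, 0, 1, 4, 1, 4, 1, 1, 4, 1, 4, 1, 1, 4, 1, 4, 1, 3],
  [0, 3, 0, 3, 0, 0, 3, 0, 3, 0, 4, 4, 1, 3, 3, 0, 0, 1, 4, 1, 4, 1, 4],
  [3, 1, 3, 3, 0, 0, 1, 4, 1, 4, 1, 1, 3, 3, 0, 0, 1, 3, 3, 0, 0, 1, 4, 1, 4, 1, 1, 1, 4, 4, 0, 3],
  [0, 3, 0, 3, 0, 1, 1, 4, 4, 0, 4, 4, 1, 1, 4, 4, 0],
  [1, 3, 3, 0, 0, 1, 4, 1, 4, 1, 1, 4, 1, 4, 1, 1, 1, 4, 4, 0, 0, 3, 0, 3, 0, 0, 3, 0, 3, 0, 4],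
  [1, 3, 3, 0, 0, 1, 4, 1, 4, 1, 1, 1, 4, 4, 0, 1, 1, 4, 4, 0, 3, 1, 1, 4, 4, 0, 1, 1, 4, 4, 0],
  [3, 1, 3, 3, 0, 0, 3, 3, 1, 3, 3, 0, 0, 1, 4, 1, 4, 1, 3],
  [1, 4, 1, 4, 1, 1, 3, 3, 0, 0, 1, 3, 3, 0, 0, 1, 4, 1, 4, 1, 1, 1, 4, 4, 0, 1, 4, 1, 4, 1, 1, 3, 3, 0, 0, 3],
  [1, 1, 4, 4, 0, 1, 4, 1, 4, 1, 1, 1, 4, 4, 0, 4, 1, 3, 3, 0, 0],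
  [0, 3, 0, 3, 0, 1, 1, 4, 4, 0, 4, 4, 1, 1, 4, 4, 0],
  [1, 1, 4, 4, 0, 4, 0, 3, 0, 3, 0, 1, 3, 3, 0, 0, 4],
  [1, 1, 4, 4, 0, 4, 4, 0, 3, 0, 3, 0, 0, 3, 0, 3, 0],
  [0, 3, 0, 3, 0, 0, 3, 0, 3, 0, 0, 3, 0, 3, 0, 3, 1, 4, 1, 4, 1, 3],
  [0, 3, 0, 3, 0, 1, 3, 3, 0, 0, 0, 3, 0, 3, 0, 3, 1, 1, 4, 4, 0, 3],
  [1, 4, 1, 4, 1, 1, 4, 1, 4, 1, 3, 1, 3, 3, 0, 0],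
  [1, 3, 3, 0, 0, 1, 4, 1, 4, 1, 1, 3, 3, 0, 0, 4, 1, 3, 3, 0, 0],
  [3, 3, 1, 3, 3, 0, 0, 4, 1, 1, 4, 4, 0, 3],
  [1, 4, 1, 4, 1, 1, 1, 4, 4, 0, 1, 4, 1, 4, 1, 3, 1, 3, 3, 0, 0, 3],
  [1, 3, 3, 0, 0, 4, 1, 3, 3, 0, 0, 1, 3, 3, 0, 0, 4, 4],
  [0, 3, 0, 3, 0, 1, 3, 3, 0, 0, 3, 1, 1, 4, 4, 0, 4, 4],
  [4, 0, 3, 0, 3, 0, 3, 3, 1, 3, 3, 0, 0, 3, 3],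
  [1, 1, 4, 4, 0, 3, 1, 3, 3, 0, 0],
  [4, 1, 1, 4, 4, 0, 4, 4, 1, 1, 4, 4, 0],
  [1, 1, 4, 4, 0, 3, 1, 3, 3, 0, 0, 0, 3, 0, 3, 0, 1, 3, 3, 0, 0],
  [0, 3, 0, 3, 0, 1, 1, 4, 4, 0, 4, 4, 1, 1, 4, 4, 0, 0, 3, 0, 3, 0, 3],
  [1, 3, 3, 0, 0, 3, 3, 1, 3, 3, 0, 0, 1, 4, 1, 4, 1],
  [1, 1, 4, 4, 0, 1, 1, 4, 4, 0, 4, 1, 3, 3, 0, 0, 1, 3, 3, 0, 0],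
  [4, 1, 1, 4, 4, 0, 0, 3, 0, 3, 0, 0, 3, 0, 3, 0, 3, 1, 4, 1, 4, 1, 1, 3, 3, 0, 0, 3],
  [1, 1, 4, 4, 0, 0, 3, 0, 3, 0, 0, 3, 0, 3, 0, 3, 1, 4, 1, 4, 1, 1, 3, 3, 0, 0],
  [4, 0, 3, 0, 3, 0, 0, 3, 0, 3, 0, 3, 1, 4, 1, 4, 1, 3],
  [3, 3, 1, 3, 3, 0, 0, 4, 1, 1, 4, 4, 0, 1, 4, 1, 4, 1],
  [1, 4, 1, 4, 1, 1, 3, 3, 0, 0, 0, 3, 0, 3, 0, 1, 3, 3, 0, 0, 4, 0, 3, 0, 3, 0, 4],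
  [1, 4, 1, 4, 1, 4, 0, 3, 0, 3, 0, 1, 1, 4, 4, 0, 4],
  [1, 1, 4, 4, 0, 3, 1, 3, 3, 0, 0, 0, 3, 0, 3, 0, 1, 3, 3, 0, 0, 0, 3, 0, 3, 0, 3],
  [1, 3, 3, 0, 0, 3, 3, 1, 3, 3, 0, 0, 3],
  [4, 1, 1, 4, 4, 0, 4, 4, 1, 1, 4, 4, 0],
  [4, 4, 1, 1, 4, 4, 0, 1, 1, 4, 4, 0, 0, 3, 0, 3, 0, 1, 3, 3, 0, 0, 4],
  [1, 3, 3, 0, 0, 3, 3, 1, 3, 3, 0, 0, 3],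
  [0, 3, 0, 3, 0, 0, 3, 0, 3, 0, 3, 3, 1, 3, 3, 0, 0, 3, 1, 4, 1, 4, 1],
  [],
  [4, 0, 3, 0, 3, 0, 3, 3, 1, 3, 3, 0, 0, 3, 1, 4, 1, 4, 1],
  [0, 3, 0, 3, 0, 1, 3, 3, 0, 0, 0, 3, 0, 3, 0, 3, 1, 1, 4, 4, 0, 3],
  [4, 1, 1, 4, 4, 0, 0, 3, 0, 3, 0],
  [0, 3, 0, 3, 0, 4, 1, 1, 4, 4, 0, 1, 1, 4, 4, 0, 3, 1, 3, 3, 0, 0],
  [1, 1, 4, 4, 0, 4, 0, 3, 0, 3, 0, 0, 3, 0, 3, 0],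
  [3, 1, 1, 4, 4, 0, 0, 3, 0, 3, 0],
  [1, 1, 4, 4, 0, 1, 4, 1, 4, 1, 1, 1, 4, 4, 0, 4, 1, 3, 3, 0, 0],
  [3, 1, 4, 1, 4, 1, 4, 1, 1, 4, 4, 0, 0, 3, 0, 3, 0],
  [1, 3, 3, 0, 0, 4, 0, 3, 0, 3, 0, 0, 3, 0, 3, 0, 4],
  [0, 3, 0, 3, 0, 3],
  [4, 1, 3, 3, 0, 0, 0, 3, 0, 3, 0, 3, 1, 1, 4, 4, 0, 3],
  [4, 0, 3, 0, 3, 0, 1, 3, 3, 0, 0, 4, 1, 1, 4, 4, 0],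
  [4, 1, 1, 4, 4, 0, 3, 1, 4, 1, 4, 1, 3, 1, 3, 3, 0, 0, 3],
  [4, 4, 1, 1, 4, 4, 0, 4, 1, 1, 4, 4, 0, 1, 1, 4, 4, 0, 4],
  [1, 3, 3, 0, 0, 3, 3, 1, 3, 3, 0, 0, 1, 4, 1, 4, 1],
  [0, 3, 0, 3, 0, 3, 1, 1, 4, 4, 0, 4, 0, 3, 0, 3, 0, 0, 3, 0, 3, 0],
  [3, 1, 1, 4, 4, 0, 1, 4, 1, 4, 1, 3, 3, 1, 3, 3, 0, 0],
  [1, 1, 4, 4, 0, 4, 1, 3, 3, 0, 0, 1, 3, 3, 0, 0, 1, 4, 1, 4, 1, 1, 4, 1, 4, 1],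
  [3, 3, 1, 1, 4, 4, 0, 1, 1, 4, 4, 0, 1, 4, 1, 4, 1, 3, 1, 3, 3, 0, 0],
  [1, 1, 4, 4, 0, 4, 1, 3, 3, 0, 0, 4, 0, 3, 0, 3, 0, 1, 1, 4, 4, 0],
  [1, 1, 4, 4, 0, 4, 1, 3, 3, 0, 0, 1, 3, 3, 0, 0, 1, 4, 1, 4, 1, 3],
  [1, 4, 1, 4, 1, 1, 4, 1, 4, 1, 4, 0, 3, 0, 3, 0],
  [4, 4, 1, 3, 3, 0, 0, 4, 4, 1, 1, 4, 4, 0, 3, 3],
  [1, 4, 1, 4, 1, 1, 4, 1, 4, 1, 4, 1, 3, 3, 0, 0, 1, 3, 3, 0, 0, 1, 4, 1, 4, 1, 1, 1, 4, 4, 0],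
  [4, 0, 3, 0, 3, 0, 3, 3, 1, 3, 3, 0, 0, 3, 1, 4, 1, 4, 1],
  [1, 4, 1, 4, 1, 4, 1, 1, 4, 4, 0, 3, 1, 4, 1, 4, 1, 1, 4, 1, 4, 1, 3],
  [1, 1, 4, 4, 0, 3, 1, 3, 3, 0, 0, 0, 3, 0, 3, 0, 3],
  [1, 3, 3, 0, 0, 3, 1, 3, 3, 0, 0, 0, 3, 0, 3, 0, 4, 0, 3, 0, 3, 0, 4, 1, 3, 3, 0, 0],
  [1, 4, 1, 4, 1, 1, 3, 3, 0, 0, 1, 4, 1, 4, 1, 4, 1, 1, 4, 4, 0, 0, 3, 0, 3, 0],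
  [1, 1, 4, 4, 0, 4, 1, 3, 3, 0, 0, 0, 3, 0, 3, 0, 0, 3, 0, 3, 0, 3, 3],
  [1, 3, 3, 0, 0, 1, 4, 1, 4, 1, 1, 3, 3, 0, 0, 1, 4, 1, 4, 1, 1, 1, 4, 4, 0, 1, 1, 4, 4, 0, 1, 4, 1, 4, 1],
  [0, 3, 0, 3, 0, 0, 3, 0, 3, 0, 0, 3, 0, 3, 0, 4, 1, 3, 3, 0, 0, 1, 4, 1, 4, 1, 4],
  [1, 3, 3, 0, 0, 1, 3, 3, 0, 0, 0, 3, 0, 3, 0, 1, 3, 3, 0, 0, 3, 3, 1, 1, 4, 4, 0],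
  [1, 3, 3, 0, 0, 0, 3, 0, 3, 0, 1, 1, 4, 4, 0, 3],
  [1, 3, 3, 0, 0, 1, 4, 1, 4, 1, 3, 1, 3, 3, 0, 0, 1, 4, 1, 4, 1, 1, 4, 1, 4, 1],
  [3, 1, 3, 3, 0, 0, 0, 3, 0, 3, 0, 1, 1, 4, 4, 0, 0, 3, 0, 3, 0, 4, 1, 1, 4, 4, 0, 3],
  [1, 1, 4, 4, 0, 1, 1, 4, 4, 0, 3, 1, 1, 4, 4, 0],
  [0, 3, 0, 3, 0, 1, 1, 4, 4, 0, 1, 1, 4, 4, 0, 3, 1, 3, 3, 0, 0, 1, 3, 3, 0, 0, 0, 3, 0, 3, 0, 4],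
  [0, 3, 0, 3, 0, 0, 3, 0, 3, 0, 1, 1, 4, 4, 0, 4, 0, 3, 0, 3, 0, 1, 1, 4, 4, 0],
  [3, 1, 1, 4, 4, 0, 0, 3, 0, 3, 0, 4, 1, 3, 3, 0, 0],
  [1, 3, 3, 0, 0, 1, 4, 1, 4, 1, 3, 1, 3, 3, 0, 0, 1, 4, 1, 4, 1, 3],
  [1, 4, 1, 4, 1, 1, 4, 1, 4, 1, 1, 4, 1, 4, 1, 1, 3, 3, 0, 0, 1, 4, 1, 4, 1, 4],
  [1, 4, 1, 4, 1, 1, 3, 3, 0, 0, 1, 4, 1, 4, 1, 4, 1, 1, 4, 4, 0, 0, 3, 0, 3, 0],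
  [0, 3, 0, 3, 0, 4, 4, 0, 3, 0, 3, 0, 1, 1, 4, 4, 0, 0, 3, 0, 3, 0],
  [1, 4, 1, 4, 1, 1, 1, 4, 4, 0, 0, 3, 0, 3, 0, 0, 3, 0, 3, 0, 1, 3, 3, 0, 0, 4],
  [1, 3, 3, 0, 0, 3, 3, 1, 3, 3, 0, 0, 3],
  [3, 1, 1, 4, 4, 0, 1, 1, 4, 4, 0, 4, 4, 1, 3, 3, 0, 0],
  [1, 1, 4, 4, 0, 4, 1, 1, 4, 4, 0, 1, 1, 4, 4, 0, 0, 3, 0, 3, 0, 0, 3, 0, 3, 0, 1, 3, 3, 0, 0, 3],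
  [1, 1, 4, 4, 0, 1, 4, 1, 4, 1, 1, 1, 4, 4, 0, 4, 1, 3, 3, 0, 0],
  [1, 1, 4, 4, 0, 0, 3, 0, 3, 0, 3, 1, 3, 3, 0, 0, 0, 3, 0, 3, 0],
  [1, 3, 3, 0, 0, 4, 1, 3, 3, 0, 0, 1, 3, 3, 0, 0, 3, 3]]

/-- Target representative (index into `rep`, `0 … 4`) of the 128 elements of `S0`. -/
def cTgts : List ℕ := [0, 1, 1, 1, 3, 3, 3, 2, 3, 2, 1, 4, 1, 4, 1, 4, 4, 1, 4, 1, 4, 1, 1, 2, 2, 2, 2, 1, 2, 3, 2, 2, 3, 3, 3, 2, 1, 2, 3, 3, 2, 3, 3, 3, 4, 3, 3, 1, 1, 3, 4, 1, 1, 3, 1, 1, 3, 4, 1, 3, 3, 3, 3, 1, 4, 3, 3, 3, 3, 1, 3, 3, 2, 2, 2, 3, 2, 3, 2, 1, 2, 1, 1, 2, 1, 1, 2, 2, 2, 2, 3, 2, 2, 2, 3, 3, 3, 3, 1, 3, 4, 4, 2, 1, 4, 4, 2, 2, 2, 2, 1, 2, 4, 1, 4, 2, 1, 2,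 2, 3, 2, 3, 1, 3, 3, 1, 1, 1]

/-- Conjugator words for the elements `x3 ^ i * z3 ^ j` (index `3 * i + j`). -/
def p3Words : List (List ℕ) := [
  [],
  [1, 1, 4, 4, 0, 0, 3, 0, 3, 0, 0, 3, 0, 3, 0, 0, 3, 0, 3, 0, 4, 1, 3, 3, 0, 0, 3],
  [1, 4, 1, 4, 1, 1, 4, 1, 4, 1, 1, 3, 3, 0, 0, 4, 1, 3, 3, 0, 0, 4, 1, 3, 3, 0, 0],
  [],
  [0, 3, 0, 3, 0, 4, 4, 0, 3, 0, 3, 0],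
  [1, 1, 4, 4, 0, 1, 1, 4, 4, 0, 3, 1, 1, 4, 4, 0, 3, 1, 4, 1, 4, 1],
  [0, 3, 0, 3, 0, 3],
  [1, 1, 4, 4, 0, 1, 1, 4, 4, 0, 3, 1, 1, 4, 4, 0, 3, 3],
  [3, 1, 4, 1, 4, 1, 4]]

/-- Indices of the elements of `S0` commuting with `u4a`. -/
def cent4a : List ℕ := [0, 2, 11, 20, 25, 27, 30, 35, 40, 44, 50, 52, 54, 55, 57, 64, 72, 74, 76, 78, 83, 86, 87, 91, 100, 102, 106, 107, 114, 117, 122, 125]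

/-- Indices of the elements of `S0` commuting with `u4b`. -/
def cent4b : List ℕ := [0, 5, 8, 27, 45, 46, 59, 60, 61, 62, 70, 71, 119, 122, 124, 125]

end Cfsg.Agent.Lib.Helper29.M22B
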