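import Cfsg.Agent.Lib.Helper92.SylM22
import Cfsg.Agent.Lib.Helper7.M22Norm5
import Cfsg.Prelude.Def_Spor_Mathieu
import Cfsg.Prelude.Def_Characters

/-!
# Project M22B (S5005: `M22` has a single 2-block): definitions

Explicit elements of `M22` (as words in the generators of `M24`, with their tables), the twelve
class representatives `rep`, the centralizer orders `cOrd`, the fixed-point counting functions and
the eight rational class functions `chi21 … chi385`.  No theorem of substance is proved here.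
-/

set_option autoImplicit false

namespace Cfsg.Agent.Lib.Helper29.M22B
open Cfsg Cfsg.Agent.Lib.Helper7 Cfsg.Agent.Lib.Helper92 Cfsg.Agent.Lib.Helper92.SylM22

/-! ### Words and tables -/

/-- Word of `t2`. -/
def t2W : List ℕ := [3, 1, 3, 3, 0, 0, 0, 3, 0, 3, 0, 1, 1, 4, 4, 0, 1, 1, 4, 4, 0, 4, 1, 1, 4, 4, 0, 4, 4]

/-- Table of `t2`. -/
def t2T : List ℕ := [0, 1, 2, 12, 10, 11, 6, 7, 17, 13, 4, 5, 3, 9, 18, 22, 20, 8, 14, 19, 16, 21, 15, 23]

/-- The element `t2` of `M24`. -/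
noncomputable def t2 : Equiv.Perm GolayPt := m24Word t2W

theorem evT_t2 : evT t2W = t2T := by decide +kernel

theorem matches_t2 : Matches t2 t2T := evT_t2 ▸ matches_evT t2W

/-- Word of `u4a`. -/
def u4aW : List ℕ := [1, 4, 1, 4, 1, 1, 4, 1, 4, 1, 4, 1, 3, 3, 0, 0, 4, 1, 3, 3, 0, 0, 3, 1, 1, 4, 4, 0, 3, 3]

/-- Table of `u4a`. -/
def u4aT : List ℕ := [0, 21, 6, 22, 5, 10, 2, 7, 20, 18, 11, 4, 15, 14, 9, 3, 8, 16, 13, 19, 17, 1, 12, 23]

/-- The element `u4a` of `M24`. -/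
noncomputable def u4a : Equiv.Perm GolayPt := m24Word u4aW

theorem evT_u4a : evT u4aW = u4aT := by decide +kernel

theorem matches_u4a : Matches u4a u4aT := evT_u4a ▸ matches_evT u4aW

/-- Word of `u4b`. -/
def u4bW : List ℕ := [4, 1, 3, 3, 0, 0, 0, 3, 0, 3, 0, 3, 1, 1, 4, 4, 0, 1, 4, 1, 4, 1]

/-- Table of `u4b`. -/
def u4bT : List ℕ := [0, 2, 1, 4, 12, 22, 21, 7, 9, 17, 3, 15, 10, 8, 16, 5, 18, 13, 20, 19, 14, 6, 11, 23]

/-- The element `u4b` of `M24`. -/
noncomputable def u4b : Equiv.Perm GolayPt := m24Word u4bW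

theorem evT_u4b : evT u4bW = u4bT := by decide +kernel

theorem matches_u4b : Matches u4b u4bT := evT_u4b ▸ matches_evT u4bW

/-- Word of `u8`. -/
def u8W : List ℕ := [1, 1, 4, 4, 0, 0, 3, 0, 3, 0, 3, 1, 3, 3, 0, 0, 4, 0, 3, 0, 3, 0, 1, 1, 4, 4, 0, 3, 3]

/-- Table of `u8`. -/
def u8T : List ℕ := [0, 2, 21, 5, 12, 15, 1, 19, 14, 8, 3, 22, 11, 17, 16, 4, 13, 18, 20, 7, 9, 6, 10, 23]

/-- The element `u8` of `M24`. -/
noncomputable def u8 : Equiv.Perm GolayPt := m24Word u8W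

theorem evT_u8 : evT u8W = u8T := by decide +kernel

theorem matches_u8 : Matches u8 u8T := evT_u8 ▸ matches_evT u8W

/-- Word of `x3`. -/
def x3W : List ℕ := [1, 4, 1, 4, 1, 1, 4, 1, 4, 1, 1, 4, 1, 4, 1, 1, 3, 3, 0, 0, 3, 1, 3, 3, 0, 0, 1, 4, 1, 4, 1, 4, 1, 3, 3, 0, 0]

/-- Table of `x3`. -/
def x3T : List ℕ := [0, 1, 2, 3, 4, 14, 15, 10, 21, 8, 12, 19, 7, 22, 17, 18, 13, 5, 6, 20, 11, 9, 16, 23]

/-- The element `x3` of `M24`. -/
noncomputable def x3 : Equiv.Perm GolayPt := m24Word x3W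

theorem evT_x3 : evT x3W = x3T := by decide +kernel

theorem matches_x3 : Matches x3 x3T := evT_x3 ▸ matches_evT x3W

/-- Word of `z3`. -/
def z3W : List ℕ := [0, 3, 0, 3, 0, 4, 0, 3, 0, 3, 0, 4, 4]

/-- Table of `z3`. -/
def z3T : List ℕ := [0, 4, 2, 1, 3, 22, 18, 7, 14, 5, 10, 19, 12, 21, 16, 6, 8, 13, 15, 20, 11, 17, 9, 23]

/-- The element `z3` of `M24`. -/
noncomputable def z3 : Equiv.Perm GolayPt := m24Word z3W

theorem evT_z3 : evT z3W = z3T := by decide +kernel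

theorem matches_z3 : Matches z3 z3T := evT_z3 ▸ matches_evT z3W

/-- Word of `v1`. -/
def v1W : List ℕ := [1, 3, 3, 0, 0, 1, 3, 3, 0, 0, 1, 4, 1, 4, 1, 1, 1, 4, 4, 0, 3, 1, 3, 3, 0, 0, 3]

/-- Table of `v1`. -/
def v1T : List ℕ := [0, 3, 4, 1, 2, 11, 6, 7, 13, 16, 10, 5, 12, 8, 19, 15, 9, 20, 18, 14, 17, 22, 21, 23]

/-- The element `v1` of `M24`. -/
noncomputable def v1 : Equiv.Perm GolayPt := m24Word v1W

theorem evT_v1 : evT v1W = v1T := by decide +kernel

theorem matches_v1 : Matches v1 v1T := evT_v1 ▸ matches_evT v1W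

/-- Word of `y3t`. -/
def y3tW : List ℕ := [1, 3, 3, 0, 0, 1, 3, 3, 0, 0, 0, 3, 0, 3, 0, 1, 3, 3, 0, 0, 3, 3, 1, 1, 4, 4, 0]

/-- Table of `y3t`. -/
def y3tT : List ℕ := [0, 2, 19, 16, 4, 9, 7, 21, 8, 18, 10, 13, 20, 14, 11, 3, 15, 17, 5, 1, 22, 6, 12, 23]

/-- The element `y3t` of `M24`. -/
noncomputable def y3t : Equiv.Perm GolayPt := m24Word y3tW

theorem evT_y3t : evT y3tW = y3tT := by decide +kernel

theorem matches_y3t : Matches y3t y3tT := evT_y3t ▸ matches_evT y3tW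

/-- Word of `w3`. -/
def w3W : List ℕ := [4, 1, 1, 4, 4, 0, 1, 4, 1, 4, 1, 4, 4, 1, 1, 4, 4, 0, 4, 1, 3, 3, 0, 0, 3]

/-- Table of `w3`. -/
def w3T : List ℕ := [0, 1, 11, 16, 3, 6, 21, 13, 8, 22, 17, 18, 12, 20, 14, 10, 4, 15, 2, 9, 7, 5, 19, 23]

/-- The element `w3` of `M24`. -/
noncomputable def w3 : Equiv.Perm GolayPt := m24Word w3W

theorem evT_w3 : evT w3W = w3T := by decide +kernel

theorem matches_w3 : Matches w3 w3T := evT_w3 ▸ matches_evT w3W

theorem t2T_eq : t2T = tbl 27 := by decide +kernel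
theorem u4aT_eq : u4aT = tbl 76 := by decide +kernel
theorem u4bT_eq : u4bT = tbl 5 := by decide +kernel
theorem u8T_eq : u8T = tbl 11 := by decide +kernel

/-- The element of order 7: `m4P * s11P` of `Helper7`. -/
noncomputable def g7 : Equiv.Perm GolayPt := m4P * s11P

/-- Table of `g7`. -/
def g7T : List ℕ := compT m4T s11T

theorem matches_g7 : Matches g7 g7T := matches_mul matches_m4 matches_s11

/-- The element of order 6. -/
noncomputable def g6 : Equiv.Perm GolayPt := x3 * v1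

/-- Table of `g6`. -/
def g6T : List ℕ := compT x3T v1T

theorem matches_g6 : Matches g6 g6T := matches_mul matches_x3 matches_v1

/-- The twelve class representatives: `1A 2A 4A 4B 8A 3A 5A 6A 7A 7B 11A 11B`. -/
noncomputable def rep : ℕ → Equiv.Perm GolayPt
  | 0 => 1
  | 1 => t2
  | 2 => u4a
  | 3 => u4b
  | 4 => u8
  | 5 => x3
  | 6 => n5P
  | 7 => g6
  | 8 => g7
  | 9 => g7⁻¹
  | 10 => s11P
  | _ => s11P⁻¹

/-- The centralizer orders of the twelve representatives. -/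
def cOrd (i : ℕ) : ℕ := [443520, 384, 32, 16, 8, 36, 5, 12, 7, 7, 11, 11].getD i 1

/-- The class sizes of the twelve representatives. -/
def cSize (i : ℕ) : ℕ := [1, 1155, 13860, 27720, 55440, 12320, 88704, 36960, 63360, 63360, 40320, 40320].getD i 0

/-! ### Membership in `M22` -/

theorem Gst_two_eq : Gst 2 = Spor.M22 := by
  ext g
  rw [mem_Gst, mem_M22]
  constructor
  · rintro ⟨h, hf⟩
    exact ⟨h, hf 0 (by norm_num), hf 1 (by norm_num)⟩
  · rintro ⟨h, h23, h0⟩
    refine ⟨h, fun j hj => ?_⟩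
    interval_cases j
    · exact h23
    · exact h0

theorem word_mem_M22 (w t : List ℕ) (h : evT w = t) (h23 : t.getD 23 0 = 23)
    (h0 : t.getD 0 0 = 0) : m24Word w ∈ Spor.M22 := by
  rw [mem_M22]
  have hm : Matches (m24Word w) t := h ▸ matches_evT w
  exact ⟨m24Word_mem w, fixes_of_matches hm (by norm_num) h23, fixes_of_matches hm (by norm_num) h0⟩

theorem t2_mem : t2 ∈ Spor.M22 := word_mem_M22 _ _ evT_t2 (by decide) (by decide)
theorem u4a_mem : u4a ∈ Spor.M22 := word_mem_M22 _ _ evT_u4a (by decide) (by decide)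
theorem u4b_mem : u4b ∈ Spor.M22 := word_mem_M22 _ _ evT_u4b (by decide) (by decide)
theorem u8_mem : u8 ∈ Spor.M22 := word_mem_M22 _ _ evT_u8 (by decide) (by decide)
theorem x3_mem : x3 ∈ Spor.M22 := word_mem_M22 _ _ evT_x3 (by decide) (by decide)
theorem z3_mem : z3 ∈ Spor.M22 := word_mem_M22 _ _ evT_z3 (by decide) (by decide)
theorem v1_mem : v1 ∈ Spor.M22 := word_mem_M22 _ _ evT_v1 (by decide) (by decide)
theorem y3t_mem : y3t ∈ Spor.M22 := word_mem_M22 _ _ evT_y3t (by decide) (by decide)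
theorem w3_mem : w3 ∈ Spor.M22 := word_mem_M22 _ _ evT_w3 (by decide) (by decide)
theorem n5_mem : n5P ∈ Spor.M22 := Gst_two_eq ▸ n5_mem_Gst2
theorem m4_mem : m4P ∈ Spor.M22 := Gst_two_eq ▸ m4_mem_Gst2
theorem s11_mem : s11P ∈ Spor.M22 := Gst_two_eq ▸ s11_mem_Gst2
theorem g7_mem : g7 ∈ Spor.M22 := Spor.M22.mul_mem m4_mem s11_mem
theorem g6_mem : g6 ∈ Spor.M22 := Spor.M22.mul_mem x3_mem v1_mem

theorem rep_mem (i : ℕ) : rep i ∈ Spor.M22 := by
  unfold rep
  split
  · exact Spor.M22.one_mem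
  · exact t2_mem
  · exact u4a_mem
  · exact u4b_mem
  · exact u8_mem
  · exact x3_mem
  · exact n5_mem
  · exact g6_mem
  · exact g7_mem
  · exact Spor.M22.inv_mem g7_mem
  · exact s11_mem
  · exact Spor.M22.inv_mem s11_mem

/-! ### The group `G = M22` and its class functions -/

/-- `M22` as a type. -/
abbrev G : Type := ↥Cfsg.Spor.M22

/-- The representatives as elements of `G`. -/
noncomputable def repG (i : ℕ) : G := ⟨rep i, rep_mem i⟩

/-- The number of the 24 points fixed by `g`. -/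
noncomputable def fixPts (g : Equiv.Perm GolayPt) : ℕ := Nat.card {p : GolayPt // g p = p}

/-- The number of members `S` of the family `F` (octads or dodecads), containing `∞ = pt 23` iff `a`
and `0 = pt 0` iff `b`, that are mapped onto themselves by `g`. -/
noncomputable def fixFam (F : Set (Finset GolayPt)) (a b : Bool) (g : Equiv.Perm GolayPt) : ℕ :=
  Nat.card {S : Finset GolayPt // S ∈ F ∧ (pt 23 ∈ S ↔ a = true) ∧ (pt 0 ∈ S ↔ b = true) ∧
    S.image g = S}

/-- Permutation character on the 24 points (`= 1 + 1 + 1 + χ21`). -/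
noncomputable def pi24 : G → ℂ := fun g => (fixPts (g : Equiv.Perm GolayPt) : ℂ)
/-- Permutation character on the 77 hexads (octads through `∞` and `0`). -/
noncomputable def pi77 : G → ℂ := fun g => (fixFam octads true true (g : Equiv.Perm GolayPt) : ℂ)
/-- Permutation character on the 176 octads through `∞` missing `0`. -/
noncomputable def pi176 : G → ℂ := fun g => (fixFam octads true false (g : Equiv.Perm GolayPt) : ℂ)
/-- Permutation character on the 330 octads missing `∞` and `0`. -/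
noncomputable def pi330 : G → ℂ := fun g => (fixFam octads false false (g : Equiv.Perm GolayPt) : ℂ)
/-- Permutation character on the 616 dodecads missing `∞` and `0`. -/
noncomputable def pi616 : G → ℂ := fun g => (fixFam dodecads false false (g : Equiv.Perm GolayPt) : ℂ)

noncomputable def chi21 : G → ℂ := fun g => pi24 g - 3
noncomputable def chi55 : G → ℂ := fun g => pi77 g - pi24 g + 2
noncomputable def chi154 : G → ℂ := fun g => pi176 g - pi24 g + 2
/-- `1 + χ21 + χ55 + χ154` (the permutation character on pairs of points). -/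
noncomputable def p231 : G → ℂ := fun g => pi77 g + pi176 g - pi24 g + 2
noncomputable def chi99 : G → ℂ := fun g => pi330 g - p231 g
noncomputable def chi210 : G → ℂ := fun g => chi21 g * chi21 g - p231 g
noncomputable def chi385 : G → ℂ := fun g => pi616 g - p231 g
noncomputable def chi231 : G → ℂ := fun g =>
  chi21 g * chi55 g - (chi21 g + chi55 g + chi99 g + chi154 g + chi210 g) - chi385 g

/-- Expected fixed point counts of the representatives: rows `24, 77, 176, 330, 616`. -/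
def fixTab (r i : ℕ) : ℕ :=
  ([[24, 8, 4, 4, 2, 6, 4, 2, 3, 3, 2, 2],
    [77, 13, 5, 1, 1, 5, 2, 1, 0, 0, 0, 0],
    [176, 16, 0, 4, 0, 5, 1, 1, 1, 1, 0, 0],
    [330, 26, 6, 2, 0, 6, 0, 2, 1, 1, 0, 0],
    [616, 24, 4, 4, 2, 4, 1, 0, 0, 0, 0, 0]].getD r []).getD i 0

/-- The values of the eight rational irreducible characters at the representatives: rows
`1, 21, 55, 99, 154, 210, 231, 385`. -/
def chiTab (r i : ℕ) : ℤ :=
  ([[1, 1, 1, 1, 1, 1, 1, 1, 1, 1, 1, 1],
    [21, 5, 1, 1, -1, 3, 1, -1, 0, 0, -1, -1],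
    [55, 7, 3, -1, 1, 1, 0, 1, -1, -1, 0, 0],
    [99, 3, 3, -1, -1, 0, -1, 0, 1, 1, 0, 0],
    [154, 10, -2, 2, 0, 1, -1, 1, 0, 0, 0, 0],
    [210, 2, -2, -2, 0, 3, 0, -1, 0, 0, 1, 1],
    [231, 7, -1, -1, -1, -3, 1, 1, 0, 0, 0, 0],
    [385, 1, 1, 1, 1, -2, 0, -2, 0, 0, 0, 0]].getD r []).getD i 0

end Cfsg.Agent.Lib.Helper29.M22B
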