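import Cfsg.Agent.Lib.Helper29.M22B.C7

/-!
# Project M22B, module [NR7]: `g7` is not conjugate to its inverse in `M22`

Same sift as in `C7.lean`: an element `g` of `M22` with `g * g7 = g7⁻¹ * g` fixes `∞, 0, 8` and is
determined by the images of `1, 2, 9`; none of the `23^3` candidates passes the two octad tests.
-/

set_option autoImplicit false

namespace Cfsg.Agent.Lib.Helper29.M22B
open Cfsg Cfsg.Agent.Lib.Helper7 Cfsg.Agent.Lib.Helper92 Cfsg.Agent.Lib.Helper92.SylM22

/-- The action of `g7⁻¹ = g7 ^ 6` on indices. -/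
def fH (i : ℕ) : ℕ := (powTb g7T 6).getD i 0

/-- The candidate determined by the images `a, b, c` of `1, 2, 9` (inverting case). -/
def candN (a b c : ℕ) (i : ℕ) : ℕ :=
  if i = 23 then 23 else if i = 0 then 0 else if i = 8 then 8 else
    fH^[(dlog7.getD i (0, 0)).1] ([a, b, c].getD (dlog7.getD i (0, 0)).2 0)

/-- The octad tests (inverting case). -/
def testN (a b c : ℕ) : Bool :=
  isOctadMask (imgList (candN a b c) tPts1) && isOctadMask (imgList (candN a b c) tPts2)

/-- No candidate passes. -/
theorem testN_false : ∀ a < 23, ∀ b < 23, ∀ c < 23, testN a b c = false := by decide +kernel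

theorem fH_fixed : ∀ v < 24, fH v = v → v = 23 ∨ v = 0 ∨ v = 8 := by decide +kernel

theorem g7_inv_eq : g7⁻¹ = g7 ^ 6 := by
  rw [inv_eq_iff_mul_eq_one, ← pow_succ']
  exact eq_of_matches (matches_powTb matches_g7 7) matches_one (by decide +kernel)

theorem idx_g7_inv (p : GolayPt) : idx (g7⁻¹ p) = fH (idx p) := by
  rw [g7_inv_eq]
  exact matches_powTb matches_g7 6 p

/-- The key relation on index functions (inverting case). -/
theorem idxFun_relN {g : Equiv.Perm GolayPt} (h : g * g7 = g7⁻¹ * g) :
    ∀ i < 24, idxFun g (fG i) = fH (idxFun g i) := by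
  intro i hi
  unfold idxFun
  rw [← g7_pt hi, ← Equiv.Perm.mul_apply, h, Equiv.Perm.mul_apply, idx_g7_inv]

theorem idxFun_iterN {g : Equiv.Perm GolayPt} (h : g * g7 = g7⁻¹ * g) (j : ℕ) :
    ∀ i < 24, idxFun g (fG^[j] i) = fH^[j] (idxFun g i) := by
  induction j with
  | zero => intro i _; simp
  | succ j ih =>
    intro i hi
    rw [Function.iterate_succ_apply', idxFun_relN h _ (fG_iter_lt j i hi), ih i hi,
      ← Function.iterate_succ_apply' fH]

theorem idxFun_eightN {g : Equiv.Perm GolayPt} (hg : g ∈ Spor.M22) (h : g * g7 = g7⁻¹ * g) :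
    idxFun g 8 = 8 := by
  obtain ⟨h23, h0⟩ := idxFun_fix hg
  have h1 := idxFun_relN h 8 (by decide)
  have h2 : fG 8 = 8 := by decide
  rw [h2] at h1
  rcases fH_fixed _ (idxFun_lt g 8) h1.symm with h3 | h3 | h3
  · exact absurd (h3.trans h23.symm)
      (idxFun_ne_of_ne (g := g) (i := 8) (j := 23) (by decide) (by decide) (by decide))
  · exact absurd (h3.trans h0.symm)
      (idxFun_ne_of_ne (g := g) (i := 8) (j := 0) (by decide) (by decide) (by decide))
  · exact h3

theorem idxFun_eq_candN {g : Equiv.Perm GolayPt} (hg : g ∈ Spor.M22) (h : g * g7 = g7⁻¹ * g) :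
    ∀ i < 24, idxFun g i = candN (idxFun g 1) (idxFun g 2) (idxFun g 9) i := by
  obtain ⟨h23, h0⟩ := idxFun_fix hg
  have h8 := idxFun_eightN hg h
  intro i hi
  unfold candN
  by_cases c23 : i = 23
  · subst c23; rw [if_pos rfl]; exact h23
  · rw [if_neg c23]
    by_cases c0 : i = 0
    · subst c0; rw [if_pos rfl]; exact h0
    · rw [if_neg c0]
      by_cases c8 : i = 8
      · subst c8; rw [if_pos rfl]; exact h8
      · rw [if_neg c8]
        obtain ⟨hd, hm⟩ := dlog7_spec i hi c23 c0 c8
        generalize dlog7.getD i (0, 0) = jm at hd hm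
        obtain ⟨j, m⟩ := jm
        simp only at hd hm ⊢
        interval_cases m
        · simp only [List.getD_cons_zero] at hd ⊢
          rw [← idxFun_iterN h j 1 (by decide), hd]
        · simp only [List.getD_cons_succ, List.getD_cons_zero] at hd ⊢
          rw [← idxFun_iterN h j 2 (by decide), hd]
        · simp only [List.getD_cons_succ, List.getD_cons_zero] at hd ⊢
          rw [← idxFun_iterN h j 9 (by decide), hd]

/-- [NR7] no element of `M22` inverts `g7`. -/
theorem no_invert_g7 (g : Equiv.Perm GolayPt) (hg : g ∈ Spor.M22) (hc : g * g7 = g7⁻¹ * g) :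
    False := by
  have hcand := idxFun_eq_candN hg hc
  have hM24 : g ∈ M24 := (mem_M22.mp hg).1
  have hlt : ∀ i, idxFun g i < 23 ∨ idxFun g i = 23 := fun i => by
    have := idxFun_lt g i; omega
  obtain ⟨h23, _⟩ := idxFun_fix hg
  have hne : ∀ i < 23, idxFun g i < 23 := by
    intro i hi
    rcases hlt i with h | h
    · exact h
    · exact absurd (h.trans h23.symm)
        (idxFun_ne_of_ne (g := g) (i := i) (j := 23) (by omega) (by decide) (by omega))
  have ht : testN (idxFun g 1) (idxFun g 2) (idxFun g 9) = true := by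
    unfold testN
    rw [Bool.and_eq_true]
    constructor
    · rw [← imgList_congr (F := idxFun g) (fun i hi => hcand i (tPts1_lt i hi))]
      exact isOctadMask_imgList hM24 tPts1 tMask1 tPts1_lt tMask1_spec isOctadMask_tMask1
    · rw [← imgList_congr (F := idxFun g) (fun i hi => hcand i (tPts2_lt i hi))]
      exact isOctadMask_imgList hM24 tPts2 tMask2 tPts2_lt tMask2_spec isOctadMask_tMask2
  rw [testN_false _ (hne 1 (by decide)) _ (hne 2 (by decide)) _ (hne 9 (by decide))] at ht
  exact Bool.false_ne_true ht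

/-- [NR7] in conjugation form. -/
theorem g7_not_conj_inv (h : Equiv.Perm GolayPt) (hh : h ∈ Spor.M22) :
    h * g7 * h⁻¹ ≠ g7⁻¹ := by
  intro hinv
  apply no_invert_g7 h hh
  rw [← hinv]
  group

end Cfsg.Agent.Lib.Helper29.M22B
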