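import Cfsg.Agent.Lib.Helper29.M22B.NR7
import Cfsg.Agent.Lib.Helper9.M22BCN
import Cfsg.Agent.Lib.Helper62.M22BPow
import Cfsg.Agent.Lib.Helper82.OneBlock.Main443520
import Cfsg.Agent.Lib.Helper9.M22BE16

/-!
# Project M22B, route B: `M22` has a single `2`-block, modulo module [E16]

Assembly of `Helper82.OneBlock.sameBlock_443520` with the `M22` data: `card_M22`, `isConj_M22`
(Helper92), [CN] (helper9), [POW] (helper62), [C7], [NR7].  The only remaining input is [E16]: an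
involution `z0` of `M22` whose centralizer has a normal self-centralizing `2`-subgroup.
-/

set_option autoImplicit false

namespace Cfsg.Agent.Lib.Helper29.M22B
open Cfsg Cfsg.Agent.Lib.Helper7 Cfsg.Agent.Lib.Helper92 Cfsg.Agent.Lib.Helper92.SylM22

/-- A centralizer in `M22` that lies in the cyclic group generated by the element has at most
`orderOf x` elements. -/
theorem card_centralizer_le_of_zpowers {x : Equiv.Perm GolayPt} (hx : x ∈ Spor.M22)
    (h : ∀ g ∈ Spor.M22, g * x = x * g → g ∈ Subgroup.zpowers x) :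
    Nat.card (Subgroup.centralizer ({(⟨x, hx⟩ : ↥Spor.M22)} : Set ↥Spor.M22)) ≤ orderOf x := by
  rw [← Nat.card_zpowers]
  let f : Subgroup.centralizer ({(⟨x, hx⟩ : ↥Spor.M22)} : Set ↥Spor.M22) → Subgroup.zpowers x :=
    fun c => ⟨c.1.1, h c.1.1 c.1.2 (by
      have hc := Subgroup.mem_centralizer_singleton_iff.mp c.2
      have := congrArg Subtype.val hc
      simpa using this)⟩
  have hf : Function.Injective f := by
    intro a b hab
    apply Subtype.ext
    apply Subtype.ext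
    have h1 : ((f a : Subgroup.zpowers x) : Equiv.Perm GolayPt) = (f b : Subgroup.zpowers x) :=
      congrArg Subtype.val hab
    exact h1
  exact Nat.card_le_card_of_injective f hf

/-- Route B: [E16] implies that `M22` has a single `2`-block. -/
theorem single_block_of_E16
    (hE : ∃ (z0 : ↥Spor.M22) (E : Subgroup (Subgroup.centralizer ({z0} : Set ↥Spor.M22))),
      orderOf z0 = 2 ∧ E.Normal ∧ IsPGroup 2 E ∧
        Subgroup.centralizer (E : Set (Subgroup.centralizer ({z0} : Set ↥Spor.M22))) ≤ E)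
    (M : Ideal AlgInt) (hM : IsPModular 2 M) (χ ψ : IrrCharacter ↥Spor.M22) :
    SameBlock M (χ : ↥Spor.M22 → ℂ) (ψ : ↥Spor.M22 → ℂ) := by
  obtain ⟨z0, E, hz0, hEn, hE2, hcE⟩ := hE
  set a5 : ↥Spor.M22 := ⟨n5P, n5_mem⟩ with ha5
  set a7 : ↥Spor.M22 := ⟨g7, g7_mem⟩ with ha7
  set a11 : ↥Spor.M22 := ⟨s11P, s11_mem⟩ with ha11
  have h5 : orderOf a5 = 5 := by rw [ha5, Subgroup.orderOf_mk, orderOf_n5]
  have h7 : orderOf a7 = 7 := by rw [ha7, Subgroup.orderOf_mk]; exact orderOf_ms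
  have h11 : orderOf a11 = 11 := by rw [ha11, Subgroup.orderOf_mk, orderOf_s11]
  have c5 : Nat.card (Subgroup.centralizer ({a5} : Set ↥Spor.M22)) ≤ 5 := by
    have := card_centralizer_le_of_zpowers n5_mem (fun g hg hc => centralizer_n5 g hg hc)
    rwa [orderOf_n5] at this
  have c7 : Nat.card (Subgroup.centralizer ({a7} : Set ↥Spor.M22)) ≤ 7 := by
    have := card_centralizer_le_of_zpowers g7_mem (fun g hg hc => centralizer_g7 g hg hc)
    rwa [show orderOf g7 = 7 from orderOf_ms] at this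
  have c11 : Nat.card (Subgroup.centralizer ({a11} : Set ↥Spor.M22)) ≤ 11 := by
    have := card_centralizer_le_of_zpowers s11_mem (fun g hg hc => centralizer_s11 g hg hc)
    rwa [orderOf_s11] at this
  have f5 : IsConj a5 (a5 ^ 2) := by
    rw [isConj_iff]
    exact ⟨⟨m4P, m4_mem⟩, Subtype.ext m4_conj_n5⟩
  have f7 : IsConj a7 (a7 ^ 2) := by
    rw [isConj_iff]
    refine ⟨⟨w3, w3_mem⟩, Subtype.ext ?_⟩
    have := Cfsg.Agent.Lib.Helper62.M22BPow.conj_of_tbl matches_w3 matches_g7 1 1 2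
      (by decide +kernel)
    simpa using this
  have f11 : IsConj a11 (a11 ^ 3) := by
    rw [isConj_iff]
    exact ⟨⟨n5P, n5_mem⟩, Subtype.ext n5_conj_s11⟩
  have nr7 : ¬ IsConj a7 a7⁻¹ := by
    rw [isConj_iff]
    rintro ⟨c, hc⟩
    exact g7_not_conj_inv c.1 c.2 (congrArg Subtype.val hc)
  have nr11 : ¬ IsConj a11 a11⁻¹ := by
    rw [isConj_iff]
    rintro ⟨c, hc⟩
    exact s11_not_conj_inv c.1 c.2 (congrArg Subtype.val hc)
  exact Cfsg.Agent.Lib.Helper82.OneBlock.sameBlock_443520 card_M22 M hM z0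
    (fun z hz => isConj_M22 z z0 hz hz0) E hEn hE2 hcE a5 a7 a11 h5 h7 h11 c5 c7 c11
    f5 f7 f11 nr7 nr11 χ ψ

/-- `M22` has a single `2`-block (route B, with helper9's [E16]). -/
theorem single_block_routeB (M : Ideal AlgInt) (hM : IsPModular 2 M)
    (χ ψ : IrrCharacter ↥Spor.M22) :
    SameBlock M (χ : ↥Spor.M22 → ℂ) (ψ : ↥Spor.M22 → ℂ) :=
  single_block_of_E16
    ⟨Cfsg.Agent.Lib.Helper9.M22BE16.z0, Cfsg.Agent.Lib.Helper9.M22BE16.E16,
      Cfsg.Agent.Lib.Helper9.M22BE16.orderOf_z0, Cfsg.Agent.Lib.Helper9.M22BE16.E16_normal,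
      Cfsg.Agent.Lib.Helper9.M22BE16.E16_isPGroup,
      Cfsg.Agent.Lib.Helper9.M22BE16.E16_selfCentralizing⟩ M hM χ ψ

end Cfsg.Agent.Lib.Helper29.M22B
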