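import Cfsg.Agent.Lib.Helper29.M22B.Defs
import Cfsg.Agent.Lib.Helper29.M22B.Data

/-!
# Project M22B, module [S2]: the 2-elements of `M22`

Every element of helper92's Sylow 2-subgroup `S0` is conjugate in `M22` to one of `1, t2, u4a, u4b, u8`.
-/

set_option autoImplicit false

namespace Cfsg.Agent.Lib.Helper29.M22B
open Cfsg Cfsg.Agent.Lib.Helper7 Cfsg.Agent.Lib.Helper92 Cfsg.Agent.Lib.Helper92.SylM22

/-- Tables of the first five representatives. -/
def repT5 (i : ℕ) : List ℕ := [idT, t2T, u4aT, u4bT, u8T].getD i idT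

/-- The certificate check for the 128 conjugators. -/
def chkS2 : Bool := (List.range 128).all fun i =>
  let w := evT (cWords.getD i [])
  compT w (tbl i) == compT (repT5 (cTgts.getD i 0)) w && w.getD 23 0 == 23 && w.getD 0 0 == 0 &&
    decide (cTgts.getD i 0 < 5)

theorem chkS2_ok : chkS2 = true := by decide +kernel

theorem matches_rep5 (i : ℕ) (hi : i < 5) : Matches (rep i) (repT5 i) := by
  interval_cases i
  · exact matches_one
  · exact matches_t2
  · exact matches_u4a
  · exact matches_u4b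
  · exact matches_u8

/-- [S2] every element of the Sylow 2-subgroup `S0` is `M22`-conjugate to `1, t2, u4a, u4b` or `u8`. -/
theorem conj_S0 (s : Equiv.Perm GolayPt) (hs : s ∈ S0) :
    ∃ h ∈ Spor.M22, ∃ i < 5, h * s * h⁻¹ = rep i := by
  obtain ⟨i, hi, hm⟩ := exists_tbl_of_mem hs
  have h := chkS2_ok
  simp only [chkS2, List.all_eq_true, List.mem_range, Bool.and_eq_true, beq_iff_eq,
    decide_eq_true_eq] at h
  obtain ⟨⟨⟨h1, h23⟩, h0⟩, hlt⟩ := h i hi
  refine ⟨m24Word (cWords.getD i []), word_mem_M22 _ _ rfl h23 h0, cTgts.getD i 0, hlt, ?_⟩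
  rw [mul_inv_eq_iff_eq_mul]
  have ha := matches_mul (matches_evT (cWords.getD i [])) hm
  have hb := matches_mul (matches_rep5 _ hlt) (matches_evT (cWords.getD i []))
  rw [h1] at ha
  exact Cfsg.Agent.Lib.Helper92.SylM22.eq_of_matches ha hb

end Cfsg.Agent.Lib.Helper29.M22B
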